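import Cfsg.Agent.H609.TH.Expl
import Cfsg.Agent.OrdDiv.Table
import Cfsg.Agent.H537.CopSuzEl
import Cfsg.Agent.H123.SporSimple
import Cfsg.Agent.SporadicA.M11Facts
import Cfsg.Agent.Cit.Eleven
import Cfsg.Agent.H215.CC.LyThirtySeven
import Cfsg.Agent.OddHalf.Table.OutMTwelve
import Cfsg.Agent.CpAutCo3.MTw
import Cfsg.Agent.H994.TwoGen.M12
import Cfsg.Agent.Schreier.MTwelve
import Cfsg.Agent.H424.Spr.Two
import Cfsg.Agent.H947.Cyc.Sz_m3
import Cfsg.Agent.S2238
import Cfsg.Agent.S0331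
import Cfsg.Agent.FastGrp
import Cfsg.Agent.Prune
set_option linter.all false

section
prune_inst 0x7f00000000000000000000000000000000000000000000000000000000000000000000000000000000000000000000000000000000000000000000000000000000000000000000000000000000000000003fffffffffffffffffffffffffffbeffbdffffffff

-- part: H609/TH/Easy_mg
section
set_option linter.all false
open scoped Cfsg.Agent.FastGrp

-- part: H609/TH/Easy
section
/-!
# S3938: the rows of `M₁₁`, `M₂₃`, `J₁`, `Ly` (helper609)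
-/

set_option autoImplicit false
set_option maxRecDepth 100000

namespace Cfsg.Agent.H609.TH

open Subgroup Cfsg.Agent.OrdDiv Cfsg.Agent.H257.El Cfsg.Agent.H424.Spr

/-! ### `J₁` -/

theorem chk_j1 : chkN 175560 [(2, 3), (3, 1), (5, 1), (7, 1), (11, 1), (19, 1)] 19 = true := by decide +kernel

theorem ok_j1 : okAll [(2, 3), (3, 1), (5, 1), (7, 1), (11, 1), (19, 1)] 19 = true := by decide +kernel

theorem surv_j1 : surv 175560 [(2, 3), (3, 1), (5, 1), (7, 1), (11, 1), (19, 1)] 19 [] = [] := by decide +kernel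

theorem spr_j1 (known : Known.{0}) {T : Type} [Group T] [Finite T] (h : Spor.IsoJ1 T) : Spr T := by
  have hs : IsSimpleGroup T := H123.SporSimple.spor_simple (by unfold IsSporadicGroup; simp only [h, true_or, or_true])
  have hc : Nat.card T = 175560 := NotCT.Orders.j1 h
  exact spr_of_empty table known (exists_not_comm hc (by norm_num)) hc (r := 19) (by norm_num) chk_j1
    (free_of_sc hc (of_chkN chk_j1).1 (by norm_num) (H537.Cop.j1_19 h) ok_j1) surv_j1

/-! ### `M₂₃` -/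

theorem chk_m23 : chkN 10200960 [(2, 7), (3, 2), (5, 1), (7, 1), (11, 1), (23, 1)] 23 = true := by decide +kernel

theorem ok_m23 : okAll [(2, 7), (3, 2), (5, 1), (7, 1), (11, 1), (23, 1)] 23 = true := by decide +kernel

theorem surv_m23 : ∀ g ∈ surv 10200960 [(2, 7), (3, 2), (5, 1), (7, 1), (11, 1), (23, 1)] 23 [], g = Grp.psl 2 23 := by
  decide +kernel

theorem spr_m23 (known : Known.{0}) {T : Type} [Group T] [Finite T] (h : Spor.IsoM23 T) : Spr T := by
  have hs : IsSimpleGroup T := H123.SporSimple.spor_simple (by unfold IsSporadicGroup; simp only [h, true_or, or_true])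
  have hc : Nat.card T = 10200960 := NotCT.Orders.m23 h
  refine spr_of_ltwo_one table known (exists_not_comm hc (by norm_num)) hc (r := 23) (by norm_num) chk_m23
    (free_of_sc hc (of_chkN chk_m23).1 (by norm_num) (H537.Cop.m23_23 h) ok_m23) (H537.Cop.m23_23 h) surv_m23 ?_
  intro a t ha _
  rw [H537.Cop.m23_11 h a ha]
  norm_num

/-! ### `M₁₁` -/

theorem chk_m11 : chkN 7920 [(2, 4), (3, 2), (5, 1), (11, 1)] 11 = true := by decide +kernel

theorem ok_m11 : okAll [(2, 4), (3, 2), (5, 1), (11, 1)] 11 = true := by decide +kernel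

theorem surv_m11 : ∀ g ∈ surv 7920 [(2, 4), (3, 2), (5, 1), (11, 1)] 11 [], g = Grp.psl 2 11 := by decide +kernel

theorem spr_m11 (known : Known.{0}) {T : Type} [Group T] [Finite T] (h : Spor.IsoM11 T) : Spr T := by
  have hs : IsSimpleGroup T := H123.SporSimple.spor_simple (by unfold IsSporadicGroup; tauto)
  have hc : Nat.card T = 7920 := NotCT.Orders.m11 h
  refine spr_of_ltwo_one table known (exists_not_comm hc (by norm_num)) hc (r := 11) (by norm_num) chk_m11
    (free_of_sc hc (of_chkN chk_m11).1 (by norm_num) (H537.Cop.m11_11 h) ok_m11) (H537.Cop.m11_11 h) surv_m11 ?_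
  intro a t ha _
  rw [SporadicA.M11Facts.card_centralizer_five (Cit.Eleven.isM11 h) ha]
  norm_num

/-! ### `Ly` -/

theorem chk_ly : chkN 51765179004000000 [(2, 8), (3, 7), (5, 6), (7, 1), (11, 1), (31, 1), (37, 1), (67, 1)] 67 = true := by
  decide +kernel

theorem ok_ly : okAll [(2, 8), (3, 7), (5, 6), (7, 1), (11, 1), (31, 1), (37, 1), (67, 1)] 67 = true := by decide +kernel

theorem surv_ly : surv 51765179004000000 [(2, 8), (3, 7), (5, 6), (7, 1), (11, 1), (31, 1), (37, 1), (67, 1)] 67 [] = [] := by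
  decide +kernel

theorem spr_ly (known : Known.{0}) {T : Type} [Group T] [Finite T] (h : Spor.IsoLy T) : Spr T := by
  have hs : IsSimpleGroup T := H123.SporSimple.spor_simple (by unfold IsSporadicGroup; simp only [h, true_or, or_true])
  have hc : Nat.card T = 51765179004000000 := NotCT.Orders.ly h
  have hsc := H655.LySixtySeven.sc_ly (fun S _ _ _ => known S) h
  exact spr_of_empty table known (exists_not_comm hc (by norm_num)) hc (r := 67) (by norm_num) chk_ly
    (free_of_sc hc (of_chkN chk_ly).1 (by norm_num) hsc ok_ly) surv_ly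

end Cfsg.Agent.H609.TH
end

-- part: H602/SprM12
section
/-!
# S3938, the row `M₁₂` (helper602)

* `gen_of` : a pair of words generates `M₁₂` if the two generators `X`, `Y` of `H994.TwoGen.M12` are words in them;
* `goodI` : every element of prime order lies in a generating pair (the classes 2A, 2B, 3A, 3B, 5A, 11AB);
* `goodA_outer` : the outer involutions are all conjugate (`OutAut.twisted`);
* `spr_m12`.
-/

set_option autoImplicit false
set_option linter.unusedVariables false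
set_option maxRecDepth 100000

namespace Cfsg.Agent.H602.SprM12

open Subgroup Cfsg Cfsg.Agent.H609.TH Cfsg.Agent.CoThreeStd.MTwelve Cfsg.Agent.CoThreeStd.InvTwo
open Cfsg.Agent.CoThreeStd.OutAut (alpha_alpha alpha_wd aw twisted)
open Cfsg.Agent.MTwelveType.SylowModel (card_M12 ext_M12)

local notation "αα" => Cfsg.Agent.CoThreeStd.OutAut.alpha

/-- word of the first generator -/
def wX : List ℕ := [2, 1, 5, 4, 3, 5, 0, 5, 1]
/-- word of the second generator -/
def wY : List ℕ := [4, 5, 4, 1, 5, 4]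

theorem wd_X : wd wX = ⟨H994.TwoGen.M12.X, H994.TwoGen.M12.X_mem⟩ := ext_M12 (by decide +kernel)
theorem wd_Y : wd wY = ⟨H994.TwoGen.M12.Y, H994.TwoGen.M12.Y_mem⟩ := ext_M12 (by decide +kernel)

theorem gen_XY : _root_.Subgroup.closure ({wd wX, wd wY} : Set Spor.M12) = ⊤ := by
  apply Subgroup.map_injective Spor.M12.subtype_injective
  rw [MonoidHom.map_closure, Set.image_pair, ← MonoidHom.range_eq_map, Subgroup.range_subtype, wd_X, wd_Y]
  exact H994.TwoGen.M12.closure_eq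

/-- substitution: the letters 0, 1, 2, 3 are `a, b, a⁻¹, b⁻¹` -/
def sb (a b : List ℕ) : List ℕ → List ℕ
  | [] => []
  | 0 :: w => a ++ sb a b w
  | 1 :: w => b ++ sb a b w
  | 2 :: w => a.reverse ++ sb a b w
  | _ :: w => b.reverse ++ sb a b w

theorem sb_mem (a b : List ℕ) : ∀ w : List ℕ, wd (sb a b w) ∈ _root_.Subgroup.closure ({wd a, wd b} : Set Spor.M12)
  | [] => one_mem _
  | 0 :: w => by
    rw [sb, wd_append]
    exact mul_mem (Subgroup.subset_closure (Or.inl rfl)) (sb_mem a b w)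
  | 1 :: w => by
    rw [sb, wd_append]
    exact mul_mem (Subgroup.subset_closure (Or.inr rfl)) (sb_mem a b w)
  | 2 :: w => by
    rw [sb, wd_append, ← wd_reverse]
    exact mul_mem (inv_mem (Subgroup.subset_closure (Or.inl rfl))) (sb_mem a b w)
  | (_ + 3) :: w => by
    show wd (b.reverse ++ sb a b w) ∈ _
    rw [wd_append, ← wd_reverse]
    exact mul_mem (inv_mem (Subgroup.subset_closure (Or.inr rfl))) (sb_mem a b w)

theorem gen_of {a b u v : List ℕ} (hu : eqW (sb a b u) wX = true) (hv : eqW (sb a b v) wY = true) :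
    _root_.Subgroup.closure ({wd a, wd b} : Set Spor.M12) = ⊤ := by
  rw [eq_top_iff, ← gen_XY, closure_le]
  rintro z (rfl | rfl)
  · rw [← wd_eq hu]
    exact sb_mem a b u
  · rw [← wd_eq hv]
    exact sb_mem a b v

/-! ### Representatives of the elements of prime order -/

theorem good_y : GoodI (wd [0]) :=
  ⟨wd [3, 2, 5], gen_of (u := [2, 1, 2, 2, 1, 0, 1, 2, 2, 1, 0, 1, 2, 1, 2, 1])
    (v := [0, 0, 0, 1, 0, 0, 1, 0, 1, 0, 0, 1, 2, 2]) (by decide +kernel) (by decide +kernel)⟩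

theorem good_pr : GoodI (wd [1, 3]) :=
  ⟨wd [4, 2, 5, 3], gen_of (u := [2, 2, 1, 0, 0, 1, 2, 1, 0, 1, 2, 1, 2, 2, 1, 0]) (v := [0, 1, 0, 0, 0, 0, 1, 2])
    (by decide +kernel) (by decide +kernel)⟩

theorem good_A0 : GoodI (wd [5, 4, 3, 2, 1, 0]) :=
  ⟨wd [3, 2, 5, 1], gen_of (u := [0, 0, 1, 2]) (v := [1, 0, 3, 0, 0, 0, 1, 2, 2, 3, 2, 3, 0])
    (by decide +kernel) (by decide +kernel)⟩

theorem good_B0 : GoodI (wd [2, 1]) :=
  ⟨wd [2, 5, 4], gen_of (u := [3, 2, 3, 2, 1, 2, 2, 3, 2]) (v := [1, 2, 3, 0, 0])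
    (by decide +kernel) (by decide +kernel)⟩

theorem good_five : GoodI (wd [0, 5]) :=
  ⟨wd [3, 4, 1], gen_of (u := [0, 1, 1, 0, 0, 3, 2, 1]) (v := [3, 2, 2, 1, 2, 1, 0, 3, 0, 0])
    (by decide +kernel) (by decide +kernel)⟩

theorem good_eleven : GoodI (wd [0, 5, 1, 2]) :=
  ⟨wd [3, 2, 5], gen_of (u := [1, 1, 0, 3, 2, 2, 1, 2, 2]) (v := [1, 2, 2, 2, 1, 2, 2, 2])
    (by decide +kernel) (by decide +kernel)⟩

theorem order_five : orderOf (wd [0, 5]) = 5 := by
  have : Fact (Nat.Prime 5) := ⟨by norm_num⟩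
  refine orderOf_eq_prime ?_ ?_
  · rw [← CpAutCo3.MTw.wd_wp]
    exact wd_eq (l' := []) (by decide +kernel)
  · exact wd_ne (l' := []) 0 (by norm_num) (by decide +kernel)

theorem order_eleven : orderOf (wd [0, 5, 1, 2]) = 11 := by
  have : Fact (Nat.Prime 11) := ⟨by norm_num⟩
  refine orderOf_eq_prime ?_ ?_
  · rw [← CpAutCo3.MTw.wd_wp]
    exact wd_eq (l' := []) (by decide +kernel)
  · exact wd_ne (l' := []) 0 (by norm_num) (by decide +kernel)

instance finM : Finite Spor.M12 := Nat.finite_of_card_ne_zero (by rw [card_M12]; norm_num)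

/-- **Inner automorphisms.** -/
theorem goodI (g : Spor.M12) (hg : (orderOf g).Prime) : GoodI g := by
  have hd : orderOf g ∣ 95040 := by
    rw [← card_M12]
    exact _root_.orderOf_dvd_natCard g
  have hne : g ≠ 1 := by
    rintro rfl
    rw [orderOf_one] at hg
    exact Nat.not_prime_one hg
  have hp : orderOf g = 2 ∨ orderOf g = 3 ∨ orderOf g = 5 ∨ orderOf g = 11 := by
    have h1 : orderOf g ∈ Nat.primeFactors 95040 := Nat.mem_primeFactors.2 ⟨hg, hd, by norm_num⟩
    have h2 : Nat.primeFactors 95040 = {2, 3, 5, 11} := by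
      have : (95040 : ℕ) = 2 ^ 6 * (3 ^ 3 * (5 ^ 1 * 11 ^ 1)) := by norm_num
      rw [this, Nat.primeFactors_mul (by norm_num) (by norm_num), Nat.primeFactors_mul (by norm_num) (by norm_num),
        Nat.primeFactors_mul (by norm_num) (by norm_num), Nat.primeFactors_prime_pow (by norm_num) Nat.prime_two,
        Nat.primeFactors_prime_pow (by norm_num) Nat.prime_three,
        Nat.primeFactors_prime_pow (by norm_num) (by norm_num : Nat.Prime 5),
        Nat.primeFactors_prime_pow (by norm_num) (by norm_num : Nat.Prime 11)]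
      rfl
    rw [h2] at h1
    simpa using h1
  have hpow := pow_orderOf_eq_one g
  rcases hp with h | h | h | h
  · rw [h, pow_two] at hpow
    rcases inv2.cases g hpow hne with ⟨c, hc⟩ | ⟨c, hc⟩
    · refine GoodI.of_conj c ?_
      have e : c * g * c⁻¹ = wd [0] := by
        rw [wd_cons, wd_nil, mul_one, ← hc]
        show c * (c⁻¹ * y * c) * c⁻¹ = y
        group
      rw [e]
      exact good_y
    · refine GoodI.of_conj c ?_
      have e : c * g * c⁻¹ = wd [1, 3] := by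
        rw [wd_cons, wd_cons, wd_nil, mul_one, ← hc]
        show c * (c⁻¹ * (p * r) * c) * c⁻¹ = p * r
        group
      rw [e]
      exact good_pr
  · rw [h] at hpow
    rcases CpAutCo3.MTw.classes hne hpow with ⟨m, rfl⟩ | ⟨m, rfl⟩
    · refine GoodI.of_conj m ?_
      have e : m * (m⁻¹ * CpAutCo3.MTw.A0 * m) * m⁻¹ = wd [5, 4, 3, 2, 1, 0] := by
        show m * (m⁻¹ * wd [5, 4, 3, 2, 1, 0] * m) * m⁻¹ = _
        group
      rw [e]
      exact good_A0
    · refine GoodI.of_conj m ?_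
      have e : m * (m⁻¹ * CpAutCo3.MTw.B0 * m) * m⁻¹ = wd [2, 1] := by
        show m * (m⁻¹ * wd [2, 1] * m) * m⁻¹ = _
        group
      rw [e]
      exact good_B0
  · exact goodI_of_sq (by norm_num) (by rw [card_M12]; norm_num) order_five good_five g h
  · exact goodI_of_sq (by norm_num) (by rw [card_M12]; norm_num) order_eleven good_eleven g h

/-! ### Outer automorphisms -/

open OddHalf.Table.OutMTwelve (al)

theorem goodA_al : GoodA al := by
  refine goodA_of_pair (x := wd [1, 5]) ?_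
  have e : al (wd [1, 5]) = wd [0, 1, 1, 4, 5, 1, 4] := alpha_wd [1, 5]
  rw [e]
  exact gen_of (u := [2, 1, 2, 1, 2, 1, 0, 3, 2, 1]) (v := [3, 0, 1, 0, 0, 1, 0, 0, 1, 0, 1])
    (by decide +kernel) (by decide +kernel)

theorem goodA_outer (a : MulAut Spor.M12) (ha : (orderOf a).Prime) (hne : ∀ g : Spor.M12, a ≠ MulAut.conj g) :
    GoodA a := by
  -- `a m = α (m0 m m0⁻¹)`
  obtain ⟨m0, hm0⟩ : ∃ m0, al * a = MulAut.conj m0 := by
    rcases OddHalf.Table.OutMTwelve.mem_or_mem a with ⟨m, hm⟩ | ⟨m, hm⟩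
    · exact absurd hm.symm (hne m)
    · exact ⟨m, hm.symm⟩
  have hal : al * al = 1 := MulEquiv.ext fun x => alpha_alpha x
  have ha1 : a = al * MulAut.conj m0 := by rw [← hm0, ← mul_assoc, hal, one_mul]
  have haa : a * a = MulAut.conj (αα m0 * m0) := by
    rw [ha1]
    apply MulEquiv.ext
    intro x
    show αα (m0 * αα (m0 * x * m0⁻¹) * m0⁻¹) = (αα m0 * m0) * x * (αα m0 * m0)⁻¹
    rw [map_mul, map_mul, alpha_alpha, map_inv]
    group
  -- the order of `a` is two
  have h2 : orderOf a = 2 := by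
    by_contra h2
    obtain ⟨k, hk⟩ := ha.odd_of_ne_two h2
    apply hne ((αα m0 * m0) ^ (k + 1))
    rw [map_pow, ← haa]
    have h1 := pow_orderOf_eq_one a
    rw [hk] at h1
    calc a = a ^ (2 * k + 1) * a := by rw [h1, one_mul]
      _ = (a * a) ^ (k + 1) := by
          rw [← pow_two, ← pow_mul, ← pow_succ]
          congr 1
  have h1 : a * a = 1 := by
    rw [← pow_two, ← h2]
    exact pow_orderOf_eq_one a
  have hs : IsSimpleGroup Spor.M12 := Schreier.MTwelve.isSimpleGroup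
  have h3 : αα m0 * m0 = 1 := by
    rw [haa] at h1
    have hc : αα m0 * m0 ∈ center Spor.M12 := by
      rw [mem_center_iff]
      intro x
      have h4 : MulAut.conj (αα m0 * m0) x = x := by rw [h1]; rfl
      rw [MulAut.conj_apply] at h4
      calc x * (αα m0 * m0) = (αα m0 * m0) * x * (αα m0 * m0)⁻¹ * (αα m0 * m0) := by rw [h4]
        _ = _ := by group
    rcases IsSimpleGroup.eq_bot_or_eq_top_of_normal (center Spor.M12) inferInstance with h5 | h5
    · rwa [h5, mem_bot] at hc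
    · exfalso
      obtain ⟨x, z, hxz⟩ := exists_not_comm card_M12 (by norm_num)
      exact hxz (mem_center_iff.1 (by rw [h5]; exact mem_top z) x)
  obtain ⟨n, hn⟩ := twisted m0 h3
  refine GoodA.of_conj (MulAut.conj n) ?_
  have e : MulAut.conj n * a * (MulAut.conj n)⁻¹ = al := by
    rw [ha1, hn]
    apply MulEquiv.ext
    intro x
    rw [← map_inv]
    show n * αα ((αα n)⁻¹ * n * (n⁻¹ * x * n⁻¹⁻¹) * ((αα n)⁻¹ * n)⁻¹) * n⁻¹ = αα x
    rw [mul_inv_rev, inv_inv, inv_inv]
    have e2 : (αα n)⁻¹ * n * (n⁻¹ * x * n) * (n⁻¹ * αα n) = (αα n)⁻¹ * x * αα n := by group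
    rw [e2, map_mul, map_mul, map_inv, alpha_alpha]
    group
  rw [e]
  exact goodA_al

theorem spr_model : Cfsg.Agent.H424.Spr.Spr Spor.M12 := by
  have hs : IsSimpleGroup Spor.M12 := Schreier.MTwelve.isSimpleGroup
  refine spr_of_parts (exists_not_comm card_M12 (by norm_num)) goodI goodA_outer

/-- **S3938, the row `M₁₂`.** -/
theorem spr_m12 (known : Cfsg.Agent.H257.El.Known.{0}) {T : Type} [Group T] [Finite T] (h : Spor.IsoM12 T) :
    Cfsg.Agent.H424.Spr.Spr T := by
  obtain ⟨e⟩ := h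
  exact Cfsg.Agent.H424.Spr.Spr.congr e.symm spr_model

end Cfsg.Agent.H602.SprM12
end

private theorem dce_811b0cefce0a : _root_.True := by
  try have : _root_.True := by simp only [_root_.Cfsg.Agent.H602.SprM12.sb.eq_1]
  try have : _root_.True := by simp only [_root_.Cfsg.Agent.H602.SprM12.sb.eq_2]
  try have : _root_.True := by simp only [_root_.Cfsg.Agent.H602.SprM12.sb.eq_4]
  try have : _root_.True := by simp only [_root_.Cfsg.Agent.H602.SprM12.sb.eq_def]
  try have : _root_.True := by simp only [_root_.Cfsg.Agent.H602.SprM12.sb.eq_5]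
  try have : _root_.True := by simp only [_root_.Cfsg.Agent.H602.SprM12.sb.eq_3]
  exact _root_.True.intro
end

-- part: H947/Spr/Sz
section
set_option linter.all false
open scoped Cfsg.Agent.FastGrp

/-!
# 3/2-generation, rank one (helper947, for S3938): the Suzuki groups
-/

set_option autoImplicit false
set_option linter.style.haveILetI false

namespace Cfsg.Agent.H947.Spr

open MulAction Subgroup Cfsg Cfsg.Agent.H396 Cfsg.Agent.H394.SqBasic Cfsg.Agent.H947.El Cfsg.Agent.H424.Spr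
open Cfsg.Agent.H101.SzAbs Cfsg.Agent.H101.SzGeo Cfsg.Agent.H101.SzAbs.Geo Cfsg.Agent.H101.SzSub

universe u

/-- an element normalising a cyclic subgroup normalises its subgroups -/
theorem mem_normalizer_zpowers {G : Type*} [Group G] [Finite G] {U : Subgroup G} (hU : IsCyclic U) {x u : G}
    (hx : x ∈ Subgroup.normalizer (U : Set G)) (hu : u ∈ U) :
    x ∈ Subgroup.normalizer ((zpowers u : Subgroup G) : Set G) := by
  obtain ⟨k, hk⟩ := hU.exists_zpow_surjective
  obtain ⟨a, ha⟩ := hk (⟨x * k * x⁻¹, (Subgroup.mem_normalizer_iff.1 hx k).1 k.2⟩ : U)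
  have ha' : (k : G) ^ a = x * k * x⁻¹ := congrArg Subtype.val ha
  refine Subgroup.mem_normalizer_fintype (fun n hn => ?_)
  obtain ⟨b, hb⟩ := hk (⟨u, hu⟩ : U)
  have hb' : (k : G) ^ b = u := congrArg Subtype.val hb
  obtain ⟨c, hc⟩ := mem_zpowers_iff.1 hn
  refine mem_zpowers_iff.2 ⟨c * a, ?_⟩
  rw [← hc, ← hb']
  have h1 : x * ((k : G) ^ b) ^ c * x⁻¹ = (x * k * x⁻¹) ^ (b * c) := by
    rw [← zpow_mul, conj_zpow]
  rw [h1, ← ha', ← zpow_mul, ← zpow_mul]
  congr 1
  ring

/-- an element of prime order normalising a cyclic subgroup whose order it divides -/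
theorem mem_of_normalizer {G : Type*} [Group G] [Finite G] {ρ : ℕ} [hρ : Fact ρ.Prime]
    (hcyc : ∀ P : Sylow ρ G, IsCyclic P) {U : Subgroup G} (hU : IsCyclic U) (hd : ρ ∣ Nat.card U) {x : G}
    (hx : x ∈ Subgroup.normalizer (U : Set G)) (hxo : orderOf x = ρ) : x ∈ U := by
  obtain ⟨u, hu⟩ := exists_prime_orderOf_dvd_card' (G := U) ρ hd
  have huo : orderOf (u : G) = ρ := by rw [Subgroup.orderOf_coe, hu]
  have hn : zpowers x ≤ Subgroup.normalizer ((zpowers (u : G) : Subgroup G) : Set G) := by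
    rw [zpowers_le]
    exact mem_normalizer_zpowers hU hx u.2
  have h1 : IsPGroup ρ (zpowers x) := IsPGroup.of_card (n := 1) (by rw [Nat.card_zpowers, hxo, pow_one])
  have h2 : IsPGroup ρ (zpowers (u : G)) := IsPGroup.of_card (n := 1) (by rw [Nat.card_zpowers, huo, pow_one])
  obtain ⟨P, hP⟩ := (IsPGroup.to_sup_of_normal_right' h1 h2 hn).exists_le_sylow
  have h3 := Cyc.mem_zpowers_of_cyclic (hcyc P) (hP (mem_sup_right (mem_zpowers _))) (hP (mem_sup_left (mem_zpowers x)))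
    huo hxo
  exact (zpowers_le.2 u.2) h3

variable {F : Type*} [Field F] [Fintype F] {m : ℕ}

/-- **the Suzuki groups**: an element of primitive prime order lies in one maximal subgroup -/
theorem sz_one (hm : 1 ≤ m) (hF : Fintype.card F = 2 ^ (2 * m + 1)) {ρ : ℕ} (hρ : ρ.Prime)
    (hρ1 : ∀ n, ρ ∣ 2 ^ n - 1 ↔ 4 * (2 * m + 1) ∣ n) (hρ3 : ¬ ρ ∣ 2) {x : Cfsg.Sz F m} (hxo : orderOf x = ρ) :
    ∃ U : Subgroup (Cfsg.Sz F m), x ∈ U ∧ Nat.card U < Nat.card (Cfsg.Sz F m) ∧
      ∀ M : Subgroup (Cfsg.Sz F m), x ∈ M → M ≠ ⊤ → M ≤ Subgroup.normalizer (U : Set (Cfsg.Sz F m)) := by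
  obtain ⟨q, r, hq, hr, h8, h2q, h2r, hrq, hrr⟩ := num_sz m hm
  have hfin : Finite (Cfsg.Sz F m) := inferInstance
  have hcardG := Cfsg.Agent.S0324.result hm hF
  rw [← hq] at hcardG
  have hρq1 : ¬ ρ ∣ q - 1 := by
    intro h
    rw [hq] at h
    have := (hρ1 _).1 h
    have := Nat.le_of_dvd (by omega) this
    omega
  have hρodd : ρ ≠ 2 := by rintro rfl; exact hρ3 dvd_rfl
  have : Fact ρ.Prime := ⟨hρ⟩
  have hx1 : x ≠ 1 := by
    rintro rfl
    rw [orderOf_one] at hxo
    exact hρ.one_lt.ne hxo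
  have hcyc : ∀ P : Sylow ρ (Cfsg.Sz F m), IsCyclic P := fun P => Cfsg.Agent.S0331.result hm hF hρodd P
  obtain ⟨U, ⟨hU, hxU⟩, huniq⟩ := Cfsg.Agent.S2238.result hm hF x hx1
  have hUc : Nat.card U ∈ ({2 ^ (2 * m + 1) - 1, 2 ^ (2 * m + 1) + 2 ^ (m + 1) + 1,
      2 ^ (2 * m + 1) - 2 ^ (m + 1) + 1} : Set ℕ) := by
    rcases hU with ⟨P, rfl⟩ | ⟨-, h⟩
    · exfalso
      have h1 : IsPGroup 2 P := P.isPGroup'
      obtain ⟨k, hk⟩ := (IsPGroup.iff_orderOf.1 h1) ⟨x, hxU⟩
      rw [Subgroup.orderOf_mk, hxo] at hk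
      exact hρodd ((Nat.prime_dvd_prime_iff_eq hρ Nat.prime_two).1 (hρ.dvd_of_dvd_pow (dvd_of_eq hk)))
    · exact h
  refine ⟨U, hxU, ?_, fun M hxM hM => ?_⟩
  · rw [hcardG]
    rw [← hq, ← hr] at hUc
    have h1 : Nat.card U ≤ 2 * q := by
      rcases hUc with h | h | h
      · omega
      · omega
      · rw [Set.mem_singleton_iff] at h
        omega
    have h2 : 2 * q < q ^ 2 * (q ^ 2 + 1) * (q - 1) := by
      have h3 : 2 * q ≤ q ^ 2 := by nlinarith
      have h4 : q ^ 2 * 1 < q ^ 2 * (q ^ 2 + 1) := by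
        apply Nat.mul_lt_mul_of_pos_left
        · nlinarith
        · positivity
      have h5 : q ^ 2 * (q ^ 2 + 1) * 1 ≤ q ^ 2 * (q ^ 2 + 1) * (q - 1) := Nat.mul_le_mul_left _ (by omega)
      omega
    omega
  rcases Cfsg.Agent.S2251.result hm hF M hM with ⟨P0, hP0⟩ | ⟨U', hUc', hUk, hU'⟩ | ⟨K, _, _, k, hk1, hkm, hK, hdiv, S, ⟨e⟩, hS⟩
  · -- `M ≤ N(P)`
    exfalso
    obtain ⟨S, hSP, -⟩ := exists_sylow hm hF (inf F m)
    obtain ⟨g, hg⟩ := exists_smul_eq (Cfsg.Sz F m) P0 S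
    have hy : g * (x : Cfsg.Sz F m) * g⁻¹ ∈ Subgroup.normalizer ((S : Subgroup (Cfsg.Sz F m)) : Set (Cfsg.Sz F m)) := by
      rw [← hg, Sylow.coe_subgroup_smul]
      exact conj_mem_normalizer_map g (hP0 hxM)
    rw [hSP] at hy
    have hSne : (S : Subgroup (Cfsg.Sz F m)) ≠ ⊥ := by
      refine S.ne_bot_of_dvd_card ?_
      rw [hcardG]
      exact ((h2q.pow (by norm_num)).mul_right _).mul_right _
    obtain ⟨t, ht⟩ := Subgroup.ne_bot_iff_exists_ne_one.1 hSne
    have ht1 : (t : Cfsg.Sz F m) ≠ 1 := fun h => ht (Subtype.ext h)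
    have htP : (t : Cfsg.Sz F m) ∈ P hF (inf F m) := by rw [← hSP]; exact t.2
    set y := g * (x : Cfsg.Sz F m) * g⁻¹ with hyd
    have h1 := (Subgroup.mem_normalizer_iff.1 hy t).1 htP
    have h2 := conj_mem_P hm hF y _ _ htP
    have hne : y * t * y⁻¹ ≠ 1 := by
      intro h
      apply ht1
      calc (t : Cfsg.Sz F m) = y⁻¹ * (y * t * y⁻¹) * y := by group
        _ = 1 := by rw [h]; group
    have h3 := (geo hm hF).free (inf F m) (y • inf F m) _ h1 ((geo hm hF).le _ _ h2) hne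
    have h4 : y ∈ MulAction.stabilizer (Cfsg.Sz F m) (Cfsg.suzukiPointInfinity F) := congrArg Subtype.val h3
    have h5 := Subgroup.orderOf_dvd_natCard _ h4
    rw [Cfsg.Agent.S0329.result hm hF, ← hq] at h5
    have h6 : orderOf y = ρ := by rw [hyd, ← MulAut.conj_apply, MulEquiv.orderOf_eq, hxo]
    rw [h6] at h5
    rcases hρ.dvd_mul.1 h5 with h7 | h7
    · have h8 := hρ.dvd_of_dvd_pow h7
      rw [hq] at h8
      exact hρodd ((Nat.prime_dvd_prime_iff_eq hρ Nat.prime_two).1 (hρ.dvd_of_dvd_pow h8))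
    · exact hρq1 h7
  · -- `M ≤ N(U)`
    have h1 := sz_normalizer hm hF U' hUc' hUk x (hU' hxM) (by rw [hxo]; exact hρ) (by rw [hxo]; exact hρodd)
    rw [hxo] at h1
    have h2 := mem_of_normalizer hcyc hUc' h1 (hU' hxM) hxo
    have h3 := huniq U' ⟨Or.inr ⟨hUc', hUk⟩, h2⟩
    rwa [h3] at hU'
  · -- a smaller Suzuki group
    exfalso
    have h1 : ρ ∣ Nat.card S := by
      rw [← hxo]
      exact Subgroup.orderOf_dvd_natCard _ (hS hxM)
    rw [Nat.card_congr e.toEquiv, Cfsg.Agent.S0324.result hk1 hK] at h1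
    obtain ⟨w, hw⟩ : ∃ w, w = 2 ^ (2 * k + 1) := ⟨_, rfl⟩
    rw [← hw] at h1
    have h2 : ρ ∣ w ^ 4 - 1 := by
      have e2 : w ^ 4 - 1 = (w ^ 2 + 1) * ((w - 1) * (w + 1)) := by
        have h3 : (w ^ 2) ^ 2 - 1 ^ 2 = (w ^ 2 + 1) * (w ^ 2 - 1) := Nat.sq_sub_sq _ _
        have h4 : w ^ 2 - 1 ^ 2 = (w + 1) * (w - 1) := Nat.sq_sub_sq _ _
        rw [one_pow] at h3 h4
        rw [h4, mul_comm (w + 1)] at h3
        rw [← h3, ← pow_mul]
      rw [e2]
      rcases hρ.dvd_mul.1 h1 with h3 | h3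
      · rcases hρ.dvd_mul.1 h3 with h4 | h4
        · have h5 := hρ.dvd_of_dvd_pow h4
          rw [hw] at h5
          exact absurd ((Nat.prime_dvd_prime_iff_eq hρ Nat.prime_two).1 (hρ.dvd_of_dvd_pow h5)) hρodd
        · exact h4.mul_right _
      · exact (h3.mul_right _).mul_left _
    rw [hw, ← pow_mul] at h2
    have h3 := (hρ1 _).1 h2
    have := Nat.le_of_dvd (by omega) h3
    omega

/-- **Row** -/
theorem row_Suzuki {L : Type u} [Group L] [Finite L] [hs : IsSimpleGroup L] (hna : ∃ x y : L, x * y ≠ y * x)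
    (h : Cfsg.Lie.IsoSuzuki L) : Spr L := by
  obtain ⟨F, iF, iF', m, hm, hF, ⟨e⟩⟩ := h
  obtain ⟨f⟩ := Cfsg.Agent.OddCyclic.ClaimC.SzIso.iso hm hF
  have e' : Cfsg.Sz F m ≃* L := f.trans e.symm
  have hfin : Finite (Cfsg.Sz F m) := inferInstance
  have hsimp : IsSimpleGroup (Cfsg.Sz F m) := e'.isSimpleGroup
  have hna' : ∃ x y : Cfsg.Sz F m, x * y ≠ y * x := by
    obtain ⟨x, y, hxy⟩ := hna
    refine ⟨e'.symm x, e'.symm y, fun h => hxy ?_⟩
    rw [← map_mul, ← map_mul] at h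
    exact e'.symm.injective h
  refine Spr.congr e' ?_
  obtain ⟨ρ, hρ, hρ1, hρ2, hρ3⟩ := Cfsg.Agent.Lib.Zsigmondy.exists_primitive (a := 2) (n := 4 * (2 * m + 1)) le_rfl
    (by omega) (by omega) (by omega)
  have hρq : ρ ∣ (2 ^ (2 * m + 1)) ^ 2 + 1 := by
    have h1 : ρ ∣ (2 ^ (2 * m + 1)) ^ 4 - 1 := by
      rw [← pow_mul]
      exact (hρ1 _).2 (by rw [mul_comm])
    have h2 : (2 ^ (2 * m + 1)) ^ 4 - 1 = ((2 ^ (2 * m + 1)) ^ 2 + 1) * ((2 ^ (2 * m + 1)) ^ 2 - 1) := by
      generalize 2 ^ (2 * m + 1) = q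
      have : (q ^ 2) ^ 2 - 1 ^ 2 = (q ^ 2 + 1) * (q ^ 2 - 1) := Nat.sq_sub_sq _ _
      rw [← this, ← pow_mul, one_pow]
    rw [h2] at h1
    refine (hρ.dvd_mul.1 h1).resolve_right fun h => ?_
    rw [← pow_mul] at h
    have := (hρ1 _).1 h
    have := Nat.le_of_dvd (by omega) this
    omega
  have : Fact ρ.Prime := ⟨hρ⟩
  obtain ⟨x, hxo⟩ := exists_prime_orderOf_dvd_card' (G := Cfsg.Sz F m) ρ (by
    rw [Cfsg.Agent.S0324.result hm hF]
    exact (hρq.mul_left _).mul_right _)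
  obtain ⟨U, hxU, hUc, hU⟩ := sz_one hm hF hρ hρ1 hρ3 hxo
  refine spr_of_one hna' (s := x) (M := Subgroup.normalizer (U : Set (Cfsg.Sz F m))) (fun ht => ?_)
    (fun K hK hK' => hU K hK hK')
  have hn : U.Normal := Subgroup.normalizer_eq_top_iff.1 ht
  rcases hn.eq_bot_or_eq_top with h1 | h1
  · rw [h1, mem_bot] at hxU
    rw [hxU, orderOf_one] at hxo
    exact hρ.one_lt.ne hxo
  · rw [h1, Subgroup.card_top] at hUc
    exact lt_irrefl _ hUc

end Cfsg.Agent.H947.Spr
end
end
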